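import Mathlib
import Groth.Prelude.Def_GalDesc

/-! Galois descent for semilinear modules. -/

set_option autoImplicit false
set_option backward.isDefEq.respectTransparency false
set_option linter.unusedSectionVars false

universe u v w w' w'' w'''

open scoped TensorProduct

namespace GalDescH7

variable {k : Type u} {K : Type v} [Field k] [Field K] [Algebra k K] [FiniteDimensional k K]

section separate

variable {M : Type w} [AddCommGroup M] [Module K M]

lemma eq_zero_of_forall_sum_smul (y : (K ≃ₐ[k] K) → M)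
    (h : ∀ c : K, ∑ σ : K ≃ₐ[k] K, σ c • y σ = 0) (σ : K ≃ₐ[k] K) : y σ = 0 := by
  classical
  refine (Module.forall_dual_apply_eq_zero_iff K (y σ)).1 fun φ => ?_
  have hli : LinearIndependent K (fun (τ : K ≃ₐ[k] K) => (τ : K →ₐ[k] K).toLinearMap) :=
    (linearIndependent_toLinearMap k K K).comp (fun τ : K ≃ₐ[k] K => (τ : K →ₐ[k] K))
      (algEquivEquivAlgHom k K).injective
  refine Fintype.linearIndependent_iff.1 hli (fun τ => φ (y τ)) ?_ σ
  refine LinearMap.ext fun c => ?_
  simpa [map_sum, mul_comm] using congrArg φ (h c)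

end separate

variable [IsGalois k K]

lemma exists_one_tmul_of_fixed {V : Type w} [AddCommGroup V] [Module k V] (x : K ⊗[k] V)
    (hx : ∀ σ : K ≃ₐ[k] K, σ • x = x) : ∃ v : V, (1 : K) ⊗ₜ[k] v = x := by
  classical
  let b := Module.Free.chooseBasis k V
  let B := b.baseChange K
  have hB : ∀ (σ : K ≃ₐ[k] K) (z : K ⊗[k] V) i, B.repr (σ • z) i = σ (B.repr z i) := by
    intro σ z i
    induction z using TensorProduct.induction_on with
    | zero => simp
    | tmul c v =>
      rw [TensorProduct.smul_tmul']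
      simp [B, Algebra.smul_def]
    | add z z' hz hz' => simp [smul_add, hz, hz']
  have hc : ∀ i, ∃ a : k, algebraMap k K a = B.repr x i := fun i =>
    IntermediateField.mem_bot.1 ((IsGalois.mem_bot_iff_fixed (F := k) (E := K) _).2 fun σ => by
      rw [← hB, hx])
  choose a ha using hc
  refine ⟨∑ i ∈ (B.repr x).support, a i • b i, ?_⟩
  conv_rhs => rw [← B.linearCombination_repr x]
  rw [Finsupp.linearCombination_apply, Finsupp.sum, TensorProduct.tmul_sum]
  refine Finset.sum_congr rfl fun i _ => ?_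
  rw [← ha i, algebraMap_smul, TensorProduct.tmul_smul]
  simp [B]

lemma one_tmul_injective {V : Type w} [AddCommGroup V] [Module k V] {v v' : V}
    (h : (1 : K) ⊗ₜ[k] v = (1 : K) ⊗ₜ[k] v') : v = v' :=
  Algebra.TensorProduct.includeRight_injective (R := k) (A := K) (B := k) (algebraMap k K).injective
    |> fun _ => by
      let b := Module.Free.chooseBasis k V
      refine b.ext_elem fun i => (algebraMap k K).injective ?_
      have := congrArg (fun z => (b.baseChange K).repr z i) h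
      simpa [Algebra.smul_def] using this

lemma smul_one_tmul {V : Type w} [AddCommGroup V] [Module k V] (σ : K ≃ₐ[k] K) (v : V) :
    σ • ((1 : K) ⊗ₜ[k] v) = (1 : K) ⊗ₜ[k] v := by
  rw [TensorProduct.smul_tmul', AlgEquiv.smul_def, map_one]

section descend

variable {W : Type w} {W' : Type w'} [AddCommGroup W] [Module k W] [AddCommGroup W'] [Module k W']

lemma exists_linearEquiv_of_equivariant (G : K ⊗[k] W ≃ₗ[K] K ⊗[k] W')
    (hG : ∀ (σ : K ≃ₐ[k] K) (x : K ⊗[k] W), G (σ • x) = σ • G x) :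
    ∃ e : W ≃ₗ[k] W', ∀ w, G ((1 : K) ⊗ₜ[k] w) = (1 : K) ⊗ₜ[k] e w := by
  have h1 : ∀ w, ∃ w', (1 : K) ⊗ₜ[k] w' = G ((1 : K) ⊗ₜ[k] w) := fun w =>
    exists_one_tmul_of_fixed _ fun σ => by rw [← hG, smul_one_tmul]
  have h2 : ∀ w', ∃ w, (1 : K) ⊗ₜ[k] w = G.symm ((1 : K) ⊗ₜ[k] w') := fun w' =>
    exists_one_tmul_of_fixed _ fun σ => by
      apply G.injective
      rw [hG, G.apply_symm_apply, smul_one_tmul]
  choose f hf using h1
  choose f' hf' using h2
  refine ⟨{ toFun := f, invFun := f', map_add' := ?_, map_smul' := ?_, left_inv := ?_, right_inv := ?_ },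
    fun w => (hf w).symm⟩
  · intro a b
    apply one_tmul_injective (k := k) (K := K)
    rw [hf, TensorProduct.tmul_add, map_add, TensorProduct.tmul_add, hf, hf]
  · intro c a
    apply one_tmul_injective (k := k) (K := K)
    rw [hf, RingHom.id_apply, TensorProduct.tmul_smul, TensorProduct.tmul_smul, hf]
    exact (G.toLinearMap.restrictScalars k).map_smul c _
  · intro a
    apply one_tmul_injective (k := k) (K := K)
    rw [hf', hf, G.symm_apply_apply]
  · intro a
    apply one_tmul_injective (k := k) (K := K)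
    rw [hf, hf', G.apply_symm_apply]

end descend

section theta

variable {M : Type w} [AddCommGroup M] [Module K M] [Module k M] [IsScalarTower k K M]
  [DistribMulAction (K ≃ₐ[k] K) M] [SMulDistribClass (K ≃ₐ[k] K) K M]
variable {W : Type w'} [AddCommGroup W] [Module k W]

/-- `c ⊗ x ↦ c • ι x`. -/
noncomputable def theta (ι : W →ₗ[k] M) : K ⊗[k] W →ₗ[K] M :=
  TensorProduct.AlgebraTensorModule.lift
    ((LinearMap.toSpanSingleton K (W →ₗ[k] M) ι))

@[simp] lemma theta_tmul (ι : W →ₗ[k] M) (c : K) (x : W) :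
    theta ι (c ⊗ₜ[k] x) = c • ι x := by
  simp [theta]

variable (a : GpH1.OneCocycle (K ≃ₐ[k] K) (M ≃ₗ[K] M))

lemma cocycle_one : a 1 = 1 := by
  have h := a.2 1 1
  rw [one_mul, one_smul] at h
  exact left_eq_mul.1 h

/-- Twisted action. -/
def tw (σ : K ≃ₐ[k] K) (x : M) : M := a σ (σ • x)

lemma tw_smul (σ : K ≃ₐ[k] K) (c : K) (x : M) : tw a σ (c • x) = σ c • tw a σ x := by
  rw [tw, smul_distrib_smul, map_smul]
  rfl

lemma tw_mul (σ τ : K ≃ₐ[k] K) (x : M) : tw a (σ * τ) x = tw a σ (tw a τ x) := by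
  rw [tw, tw, tw, a.2 σ τ, mul_smul]
  change a σ ((σ • a τ) (σ • τ • x)) = _
  rw [GalDesc.conj_smul_apply, inv_smul_smul]

lemma tw_sum_fixed (x : M) (σ : K ≃ₐ[k] K) :
    tw a σ (∑ τ, tw a τ x) = ∑ τ, tw a τ x := by
  rw [tw, Finset.smul_sum, map_sum]
  exact Fintype.sum_equiv (Equiv.mulLeft σ) _ _ fun τ => (tw_mul a σ τ x).symm

variable {a}

lemma theta_tw {ι : W →ₗ[k] M} (hfix : ∀ (σ : K ≃ₐ[k] K) (x : W), tw a σ (ι x) = ι x)
    (σ : K ≃ₐ[k] K) (z : K ⊗[k] W) : theta ι (σ • z) = tw a σ (theta ι z) := by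
  induction z using TensorProduct.induction_on with
  | zero => simp [tw]
  | tmul c x =>
    rw [TensorProduct.smul_tmul', theta_tmul, theta_tmul, tw_smul, hfix]
    rfl
  | add z z' hz hz' => simp only [smul_add, map_add, hz, hz', tw]

lemma theta_bijective {ι : W →ₗ[k] M} (hι : Function.Injective ι)
    (hW : ∀ x : M, x ∈ Set.range ι ↔ ∀ σ : K ≃ₐ[k] K, tw a σ x = x) :
    Function.Bijective (theta (K := K) ι) := by
  classical
  have hfix : ∀ (σ : K ≃ₐ[k] K) (x : W), tw a σ (ι x) = ι x := fun σ x => (hW _).1 ⟨x, rfl⟩ σ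
  constructor
  · rw [injective_iff_map_eq_zero]
    intro z hz
    have h := eq_zero_of_forall_sum_smul (k := k) (fun σ : K ≃ₐ[k] K => σ • z) (fun c => ?_) 1
    · simpa using h
    have hterm : ∀ σ : K ≃ₐ[k] K, σ c • σ • z = σ • (c • z) := fun σ =>
      (smul_distrib_smul σ c z).symm
    simp only [hterm]
    obtain ⟨w, hw⟩ := exists_one_tmul_of_fixed (k := k) (∑ σ : K ≃ₐ[k] K, σ • (c • z)) (fun σ => by
      rw [Finset.smul_sum]
      exact Fintype.sum_equiv (Equiv.mulLeft σ) _ _ fun τ => (mul_smul σ τ _).symm)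
    rw [← hw]
    have h0 : ι w = 0 := by
      rw [← one_smul K (ι w), ← theta_tmul, hw, map_sum]
      refine Finset.sum_eq_zero fun σ _ => ?_
      rw [theta_tw hfix, map_smul, hz, smul_zero, tw, smul_zero, map_zero]
    rw [hι (h0.trans (map_zero ι).symm), TensorProduct.tmul_zero]
  · rw [← LinearMap.range_eq_top, eq_top_iff]
    intro m _
    have h := eq_zero_of_forall_sum_smul (k := k) (K := K)
      (fun σ => (LinearMap.range (theta (K := K) ι)).mkQ (tw a σ m)) (fun c => ?_) 1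
    · rw [Submodule.mkQ_apply, Submodule.Quotient.mk_eq_zero, tw, cocycle_one, one_smul] at h
      exact h
    rw [show ∑ σ : K ≃ₐ[k] K, σ c • (LinearMap.range (theta (K := K) ι)).mkQ (tw a σ m) =
      (LinearMap.range (theta (K := K) ι)).mkQ (∑ σ, tw a σ (c • m)) by simp [tw_smul],
      Submodule.mkQ_apply, Submodule.Quotient.mk_eq_zero]
    obtain ⟨x, hx⟩ := (hW _).2 (tw_sum_fixed a (c • m))
    exact ⟨1 ⊗ₜ x, by rw [theta_tmul, one_smul, hx]⟩

lemma cocycle_theta_symm {ι : W →ₗ[k] M} (hfix : ∀ (σ : K ≃ₐ[k] K) (x : W), tw a σ (ι x) = ι x)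
    (g : M ≃ₗ[K] K ⊗[k] W) (hg : ∀ z, g.symm z = theta ι z) (σ : K ≃ₐ[k] K) (x : M) :
    GalDesc.cocycle k g σ x = a σ x := by
  rw [GalDesc.cocycle_apply, hg, theta_tw hfix, ← hg, g.symm_apply_apply, tw, smul_inv_smul]

lemma exists_equivariant {N : Type w''} {N' : Type w'''} [AddCommGroup N] [Module K N]
    [DistribMulAction (K ≃ₐ[k] K) N] [SMulDistribClass (K ≃ₐ[k] K) K N]
    [AddCommGroup N'] [Module K N'] [DistribMulAction (K ≃ₐ[k] K) N']
    [SMulDistribClass (K ≃ₐ[k] K) K N']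
    (g : M ≃ₗ[K] N) (g' : M ≃ₗ[K] N') (c : M ≃ₗ[K] M)
    (h : ∀ σ : K ≃ₐ[k] K, GalDesc.cocycle k g σ = c⁻¹ * GalDesc.cocycle k g' σ * σ • c)
    (σ : K ≃ₐ[k] K) (z : N) :
    g' (c (g.symm (σ • z))) = σ • g' (c (g.symm z)) := by
  have h1 := LinearEquiv.congr_fun (h σ) (σ • g.symm z)
  rw [GalDesc.cocycle_apply, inv_smul_smul, g.apply_symm_apply] at h1
  change g.symm (σ • z) = c.symm (GalDesc.cocycle k g' σ ((σ • c) (σ • g.symm z))) at h1
  rw [h1, c.apply_symm_apply, GalDesc.cocycle_apply, g'.apply_symm_apply, GalDesc.conj_smul_apply,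
    inv_smul_smul, inv_smul_smul]

end theta

end GalDescH7
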